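import Cfsg.Agent.Lib.Comp.L37x.Tab
import Cfsg.Agent.S0243

set_option maxRecDepth 100000
set_option Elab.async false

namespace Cfsg.Lib.Comp.L37x

open Cfsg.Lib.MatB Matrix

instance factSeven : Fact (Nat.Prime 7) := ⟨by norm_num⟩

theorem mctx : Ctx 8 7 3 3 (0 : ZMod 7) (@Fin.val 3) mrd :=
  ⟨by decide +kernel, by decide +kernel, by decide +kernel, Or.inr ⟨rfl, rfl⟩, by decide +kernel, by norm_num, by norm_num, mrd_eq⟩

theorem mok : ∀ x, TabOK 8 3 3 (0 : ZMod 7) mrd (mtab x) := tabOK_nth (by decide +kernel)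

noncomputable abbrev mM (x : ℕ) : Matrix (Fin 3) (Fin 3) (ZMod 7) := tm 8 3 (0 : ZMod 7) (@Fin.val 3) (mtab x)

noncomputable def mR : List (List ℕ × ℕ) := apd R (L.map fun x => ([x, iv x], 0))

theorem mside : SideOK iv R mR L := by decide +kernel

theorem mrel : relB 8 3 mrd mtab mZ mR = true := by decide +kernel

theorem mdet : ∀ x ∈ L, (mM x).det = 1 := by
  simp only [det_fin_three]
  decide +kernel

theorem iso : Nonempty (cl (gp nets) L ≃* ProjectiveSpecialLinearGroup (Fin 3) (ZMod 7)) := by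
  have := simple
  have := nets_ok.finite L
  refine bridge_proj nets_iv nets_rel ord card mside (RingHom.id _) (RingHom.id _).injective
    SpecialLinearGroup.coeMonoidHom Subtype.val_injective
    (M := mM) (fun x hx => sl_mem _ (mdet x hx)) (by decide +kernel) (mctx.rel mok mrel)
    (x := 1) (y := 2) (by decide) (by decide) (i := 2) (j := 0) (by decide +kernel) ?_
  have h : Nat.gcd 3 (7 - 1) * ((7 - 1) * Nat.card (ProjectiveSpecialLinearGroup (Fin 3) (ZMod 7))) =
      ∏ i : Fin 3, (7 ^ 3 - 7 ^ (i : ℕ)) := Cfsg.Agent.S0243.result (ZMod.card 7) 3 (by norm_num)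
  change Nat.card (ProjectiveSpecialLinearGroup (Fin 3) (ZMod 7)) = _
  generalize Nat.card (ProjectiveSpecialLinearGroup (Fin 3) (ZMod 7)) = m at h ⊢
  rw [show ∏ i : Fin 3, (7 ^ 3 - 7 ^ (i : ℕ)) = 33784128 by decide, show Nat.gcd 3 (7 - 1) = 3 by decide] at h
  omega

end Cfsg.Lib.Comp.L37x
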