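import Cfsg.Agent.Lib.Comp.L37x.Base

set_option maxRecDepth 100000
set_option Elab.async false

namespace Cfsg.Lib.Comp.L37x

universe u

noncomputable def nets_1 : Net :=
 (Net.cons 32 (nat_lit 0x80000000)
 (Net.cons 16 (nat_lit 0x8000)
 (Net.cons 4 (nat_lit 0x800000000000800)
 (Net.cons 2 (nat_lit 0x200000000000200)
 (Net.cons 1 (nat_lit 0x155555555555400)
 (Net.cons 2 (nat_lit 0x233333333333200)
 (Net.cons 4 (nat_lit 0x809090909090800)
 (Net.cons 8 (nat_lit 0x81008100810000)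
 (Net.cons 16 (nat_lit 0x800100008000)
 (Net.cons 32 (nat_lit 0x80000000)
 Net.nil))))))))))

noncomputable def nets_2 : Net :=
 (Net.cons 32 (nat_lit 0x73f97040)
 (Net.cons 16 (nat_lit 0xdaf800000500)
 (Net.cons 8 (nat_lit 0x4a000200f200c0)
 (Net.cons 4 (nat_lit 0xa0002000c0800)
 (Net.cons 2 (nat_lit 0x2000020200)
 (Net.cons 1 (nat_lit 0x101111100410440)
 (Net.cons 2 (nat_lit 0x2020000222023200)
 (Net.cons 4 (nat_lit 0xa04070d0f0c0800)
 (Net.cons 8 (nat_lit 0xf1000200f200c0)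
 (Net.cons 16 (nat_lit 0xdaf800000500)
 (Net.cons 32 (nat_lit 0x73f97040)
 Net.nil)))))))))))

noncomputable def nets_3 : Net :=
 (Net.cons 32 (nat_lit 0x36543880)
 (Net.cons 16 (nat_lit 0xce840000a922)
 (Net.cons 8 (nat_lit 0x5e0044006400c0)
 (Net.cons 4 (nat_lit 0xa0406040c040e04)
 (Net.cons 2 (nat_lit 0x22002000202)
 (Net.cons 1 (nat_lit 0x405044041100104)
 (Net.cons 2 (nat_lit 0x3013122002013222)
 (Net.cons 4 (nat_lit 0xa04060d0c0c0e04)
 (Net.cons 8 (nat_lit 0x7e0046006400c0)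
 (Net.cons 16 (nat_lit 0xcf840000a922)
 (Net.cons 32 (nat_lit 0x36543880)
 Net.nil)))))))))))

noncomputable def nets_4 : Net :=
 (Net.cons 32 (nat_lit 0x7a82f100)
 (Net.cons 16 (nat_lit 0x44740000250e)
 (Net.cons 8 (nat_lit 0x9c001400b8008e)
 (Net.cons 4 (nat_lit 0x40c0400000e020c)
 (Net.cons 2 (nat_lit 0x220202000022)
 (Net.cons 1 (nat_lit 0x4150140111055414)
 (Net.cons 2 (nat_lit 0x2010003002012110)
 (Net.cons 4 (nat_lit 0x40a0003090a060c)
 (Net.cons 8 (nat_lit 0xb4005c009d0044)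
 (Net.cons 16 (nat_lit 0x4d9600002052)
 (Net.cons 32 (nat_lit 0x7a979d00)
 Net.nil)))))))))))

noncomputable def nets_6 : Net :=
 (Net.cons 32 (nat_lit 0x9f99e000)
 (Net.cons 16 (nat_lit 0x87800000e000)
 (Net.cons 8 (nat_lit 0x98008000e00000)
 (Net.cons 4 (nat_lit 0x8000004080806)
 (Net.cons 2 (nat_lit 0x20202000002202)
 (Net.cons 1 (nat_lit 0x10154000501404)
 (Net.cons 2 (nat_lit 0x20232021032212)
 (Net.cons 4 (nat_lit 0x9080f0f0408080e)
 (Net.cons 8 (nat_lit 0x9e00e600e00000)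
 (Net.cons 16 (nat_lit 0x9f800000e000)
 (Net.cons 32 (nat_lit 0x9f99e000)
 Net.nil)))))))))))

noncomputable def nets_7 : Net :=
 (Net.cons 32 (nat_lit 0xcd011140)
 (Net.cons 16 (nat_lit 0x3d0800000d10)
 (Net.cons 8 (nat_lit 0xd80060004000d0)
 (Net.cons 4 (nat_lit 0x80a000a080608)
 (Net.cons 1 (nat_lit 0x1454450450001010)
 (Net.cons 2 (nat_lit 0x30030031020102)
 (Net.cons 4 (nat_lit 0x80a010a090608)
 (Net.cons 8 (nat_lit 0xd90060004000d0)
 (Net.cons 16 (nat_lit 0x3d0800000d1c)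
 (Net.cons 32 (nat_lit 0xcd0151c0)
 Net.nil))))))))))

noncomputable def nets_8 : Net :=
 (Net.cons 32 (nat_lit 0x80830570)
 (Net.cons 16 (nat_lit 0xa018000035b0)
 (Net.cons 8 (nat_lit 0x30000000c200d8)
 (Net.cons 4 (nat_lit 0x802000408040400)
 (Net.cons 2 (nat_lit 0x200200202200000)
 (Net.cons 1 (nat_lit 0x1105145101400011)
 (Net.cons 2 (nat_lit 0x223213203212100)
 (Net.cons 4 (nat_lit 0x80208050a04040b)
 (Net.cons 8 (nat_lit 0x30009900d200dc)
 (Net.cons 16 (nat_lit 0xa018000035b8)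
 (Net.cons 32 (nat_lit 0x808340f0)
 Net.nil)))))))))))

noncomputable def nets : List Net := [Net.nil,
 nets_1,
 nets_2,
 nets_3,
 nets_4,
 Net.rev nets_4,
 nets_6,
 nets_7,
 nets_8]

theorem nets_ok : NetsOK 64 nets := netsOK_of (by decide +kernel)

theorem nets_rel : Rels (gp nets) R := rels_of_relsB (k := 6) nets_ok (by norm_num) (by decide +kernel)

theorem nets_iv : IvOK (gp nets) iv := ivOK_of_ivB (k := 6) nets_ok (by norm_num) (by decide +kernel)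

noncomputable def slp : List (ℕ × List ℕ) := []

theorem slp_ok : slpB 64 6 nets slp L = true := by decide +kernel

theorem mem_all {x : ℕ} (h : x ∈ L ++ slp.map (·.1)) : gp nets x ∈ cl (gp nets) L :=
  cl_eq_of_slpB nets_ok (by norm_num) slp_ok ▸ mem_cl h

theorem lb : 1876896 ≤ Nat.card (cl (gp nets) L) := by
  rw [← cl_eq_of_slpB nets_ok (by norm_num) slp_ok]
  exact lb_of_chainB nets_ok (C := [([1,2,3,4,5,6,7],[8,1,2,4,7,2,8,6,2],0,0,57),
 ([1,2,3,4,5,6],[7,1,2,3,4,2,3,1,7],1,1,56),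
 ([1,2,3],[4,6,4],2,2,6),
 ([1],[2,3,1,2,3,1,2,3,1,2,1,2],8,8,49),
 ([],[1],9,9,2)]) (by decide +kernel)

end Cfsg.Lib.Comp.L37x
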