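import Cfsg.Agent.Lib.Comp.L37x.Base

set_option maxRecDepth 100000
set_option Elab.async false

namespace Cfsg.Lib.Comp.L37x

universe u

noncomputable def T2_R : List (List ℕ × ℕ) := [([1],1),
 ([2],1),
 ([3],1),
 ([1,2,3],1),
 ([1,2],6),
 ([1,3],6),
 ([6],1),
 ([4],2),
 ([1,6],1),
 ([3,6],1),
 ([1,4,2,5],0),
 ([3,4,3,6,5,6],0),
 ([1,2,1,5,3,2,3,4],0),
 ([4,5],0)]

noncomputable def T2_n_4 : Net :=
 (Net.cons 1 (nat_lit 0x12)
 (Net.cons 1 (nat_lit 0x9)
 Net.nil))

noncomputable def T2_n_6 : Net :=
 (Net.cons 3 (nat_lit 0x7)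
 Net.nil)

noncomputable def T2_n : List Net := [Net.nil,
 Net.nil,
 Net.nil,
 Net.nil,
 T2_n_4,
 Net.rev T2_n_4,
 T2_n_6]

theorem T2_n_ok : NetsOK 6 T2_n := netsOK_of (by decide +kernel)

theorem T2_n_rel : Rels (gp T2_n) T2_R := rels_of_relsB (k := 3) T2_n_ok (by norm_num) (by decide +kernel)

noncomputable def T2_b0h : ℕ := (nat_lit 0x300000200000200000000100000020001000010000010000200001000001000030000020000100003000001000001000000000b000001000100000b00000b000200000b00000b000300000100000b00020000020000020001000001000001000000000100000600020000060000060001000001000006)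

noncomputable def T2_b0c : List ℕ := [(nat_lit 0x29000035000b0200000200002900003300002b00000200002900003300002b00000200002900003300002b00000200002900240e00002f00002b00000200001300002900140500002b00000a000002000004000002000008000029007e07000000000015000021000b0200000d00001500001f00001700000d00001500001f00001700000d00001500001f00001700000d00001500240e00001b00001700000d00000400001500140500001700000a000002000011000002000008000015007e0700000000000800000d00000a004a0300000100000b000302000007000003000004000001000007000003000004000001000007000003000004000001000007000003001a0e00000300000800000600000400000600000a000001006e0700000000000f)]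

theorem T2_fin : finB 6 T2_n [1,2,3,4,5,6] 6 (runH 6 T2_n (tbk 3 4 prs3 T2_n 8) iv T2_R [] ([1,2,3].map fun x => [x]) 0 [(fun t => look T2_b0h 64 t, T2_b0c)]
  [1,5,9,24,32,36,52,28,40,52,32,2,32,36,40,44,40]
  (defsH 6 T2_n (ones 54) [4,5,6] (Nat.shiftLeft 1 0) 0)) = true := by decide +kernel

theorem T2_idx : Idx.{u} iv (T2_R ++ []) ([1,2,3].map fun x => [x]) [1,2,3,4,5,6] 6 :=
  Reach.idx T2_n_ok (reach_runH T2_n_ok (tbk_eq tr3 (by norm_num) (by norm_num) (by norm_num) T2_n_ok) T2_n_rel (reach_defsH T2_n_ok _ _ _ _ _ _) _ _) T2_fin (by norm_num)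

end Cfsg.Lib.Comp.L37x
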