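import Cfsg.Agent.Lib.Comp.L37x.Base

set_option maxRecDepth 100000
set_option Elab.async false

namespace Cfsg.Lib.Comp.L37x

universe u

noncomputable def T3_R : List (List ℕ × ℕ) := [([1],1),
 ([2],1),
 ([3],1),
 ([1,2,3],1),
 ([1,2],6),
 ([1,3],6)]

noncomputable def T3_n_1 : Net :=
 (Net.cons 32 (nat_lit 0x7000000)
 (Net.cons 16 (nat_lit 0xbf000000a658)
 (Net.cons 8 (nat_lit 0x10008a005400ac)
 (Net.cons 4 (nat_lit 0xa00000008000400)
 (Net.cons 2 (nat_lit 0x2200000000)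
 (Net.cons 1 (nat_lit 0x500454404505050)
 (Net.cons 2 (nat_lit 0x2000002210033102)
 (Net.cons 4 (nat_lit 0xa0100010a000400)
 (Net.cons 8 (nat_lit 0x10008a005c00a4)
 (Net.cons 16 (nat_lit 0xbf000000ae52)
 (Net.cons 32 (nat_lit 0x7000000)
 Net.nil)))))))))))

noncomputable def T3_n_2 : Net :=
 (Net.cons 32 (nat_lit 0xf7000000)
 (Net.cons 16 (nat_lit 0x99380000fc00)
 (Net.cons 8 (nat_lit 0x98006000140030)
 (Net.cons 4 (nat_lit 0xe0000)
 (Net.cons 2 (nat_lit 0x22002000000000)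
 (Net.cons 1 (nat_lit 0x11004004501101)
 (Net.cons 2 (nat_lit 0x1322112110310000)
 (Net.cons 4 (nat_lit 0x5000000000e030c)
 (Net.cons 8 (nat_lit 0xb800e700b40030)
 (Net.cons 16 (nat_lit 0x99380000fc00)
 (Net.cons 32 (nat_lit 0xf7000000)
 Net.nil)))))))))))

noncomputable def T3_n_3 : Net :=
 (Net.cons 32 (nat_lit 0xa8800000)
 (Net.cons 16 (nat_lit 0x42a000008a52)
 (Net.cons 8 (nat_lit 0x60004000280028)
 (Net.cons 4 (nat_lit 0x40004080a0400)
 (Net.cons 2 (nat_lit 0x20200002200)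
 (Net.cons 1 (nat_lit 0x514150504100)
 (Net.cons 2 (nat_lit 0x2221331232002221)
 (Net.cons 4 (nat_lit 0xa04090d080a0400)
 (Net.cons 8 (nat_lit 0x60005c002d007a)
 (Net.cons 16 (nat_lit 0x42a000008a52)
 (Net.cons 32 (nat_lit 0xa8800000)
 Net.nil)))))))))))

noncomputable def T3_n : List Net := [Net.nil,
 T3_n_1,
 T3_n_2,
 T3_n_3]

theorem T3_n_ok : NetsOK 64 T3_n := netsOK_of (by decide +kernel)

theorem T3_n_rel : Rels (gp T3_n) T3_R := rels_of_relsB (k := 6) T3_n_ok (by norm_num) (by decide +kernel)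

theorem T3_fin : finB 64 T3_n [1,2,3] 49 (runH 64 T3_n (fun x p => ptInv (nth Net.nil T3_n x) p) iv T3_R [] ([1].map fun x => [x]) 0 []
  [1,0,4,8,12,0,4,8,12,0,4,8,12,0,4,8,16,20,12]
  (defsH 64 T3_n (ones 576) [2,3,1,2,3,1,2,3,1,2,3,1] (Nat.shiftLeft 1 0) 0)) = true := by decide +kernel

theorem T3_idx : Idx.{u} iv (T3_R ++ []) ([1].map fun x => [x]) [1,2,3] 49 :=
  Reach.idx T3_n_ok (reach_runH T3_n_ok (fun x p _ => ptInv_gp T3_n_ok x p) T3_n_rel (reach_defsH T3_n_ok _ _ _ _ _ _) _ _) T3_fin (by norm_num)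

end Cfsg.Lib.Comp.L37x
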