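import Cfsg.Agent.Lib.Comp.L37x.Main
import Cfsg.Agent.Lib.MatB.Fam

set_option maxRecDepth 100000
set_option Elab.async false

namespace Cfsg.Lib.Comp.L37x

universe u

open Cfsg.Lib.MatB

def mT0 : List ℕ := [(nat_lit 0x1), (nat_lit 0x100), (nat_lit 0x10000)]
def mT1 : List ℕ := [(nat_lit 0x6), (nat_lit 0x600), (nat_lit 0x10202)]
def mT2 : List ℕ := [(nat_lit 0x6), (nat_lit 0x600), (nat_lit 0x10004)]
def mT3 : List ℕ := [(nat_lit 0x6), (nat_lit 0x600), (nat_lit 0x10505)]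
def mT4 : List ℕ := [(nat_lit 0x2), (nat_lit 0x402), (nat_lit 0x10305)]
def mT5 : List ℕ := [(nat_lit 0x4), (nat_lit 0x205), (nat_lit 0x10100)]
def mT6 : List ℕ := [(nat_lit 0x1), (nat_lit 0x605), (nat_lit 0x60000)]
def mT7 : List ℕ := [(nat_lit 0x6), (nat_lit 0x40203), (nat_lit 0x50101)]
def mT8 : List ℕ := [(nat_lit 0x10204), (nat_lit 0x10105), (nat_lit 0x10403)]
def mT9 : List ℕ := [(nat_lit 0x2), (nat_lit 0x200), (nat_lit 0x20000)]
def mT10 : List ℕ := [(nat_lit 0x4), (nat_lit 0x400), (nat_lit 0x40000)]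

def mtabs : List (List ℕ) := [mT0, mT1, mT2, mT3, mT4, mT5, mT6, mT7, mT8, mT9, mT10]

noncomputable def mtab : ℕ → List ℕ := nth mT0 mtabs

noncomputable def mrd (v : ℕ) : ℕ := red 8 7 3 v

theorem mrd_eq (v : ℕ) : mrd v = red 8 7 3 v := rfl

def mZ : List ℕ := [0, 9, 10]

end Cfsg.Lib.Comp.L37x
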